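import Mathlib
import Groth.Prelude.Def_W4c3degenlocivbPfaff

set_option linter.unusedSectionVars false
set_option linter.unusedVariables false
set_option autoImplicit false
set_option maxHeartbeats 400000

noncomputable section

namespace Groth.Agent.Lib.Helper6.Apolar

open MvPolynomial W4c3degenlocivb

universe u

variable {k : Type u} [CommSemiring k] {m : ℕ}

/-- the coefficient `β!/(β-α)!` -/
def cc (β α : Fin m →₀ ℕ) : ℕ := ∏ i : Fin m, Nat.descFactorial (β i) (α i)

theorem cc_eq (β α : Fin m →₀ ℕ) (h : α ≤ β) :
    (β.support.prod fun i => Nat.descFactorial (β i) (α i)) = cc β α := by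
  unfold cc
  apply Finset.prod_subset (Finset.subset_univ _)
  intro i _ hi
  have hb : β i = 0 := Finsupp.notMem_support_iff.mp hi
  have ha : α i = 0 := by
    have := h i
    omega
  rw [hb, ha]
  rfl

theorem coeff_contract (D G : MvPolynomial (Fin m) k) (γ : Fin m →₀ ℕ) :
    coeff γ (contract D G) =
      ∑ α ∈ D.support, coeff α D * coeff (α + γ) G * (cc (α + γ) α : k) := by
  classical
  unfold contract
  rw [coeff_sum]
  apply Finset.sum_congr rfl
  intro α _
  rw [coeff_sum]
  by_cases hmem : α + γ ∈ G.support
  · rw [Finset.sum_eq_single (α + γ)]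
    · rw [if_pos (le_self_add), coeff_monomial, if_pos (add_tsub_cancel_left α γ),
        cc_eq _ _ le_self_add]
    · intro β _ hβ
      split_ifs with hle
      · rw [coeff_monomial, if_neg]
        intro h
        apply hβ
        rw [← h, add_comm, tsub_add_cancel_of_le hle]
      · exact coeff_zero γ
    · intro h
      exact absurd hmem h
  · have h0 : coeff (α + γ) G = 0 := notMem_support_iff.mp hmem
    rw [h0, mul_zero, zero_mul]
    apply Finset.sum_eq_zero
    intro β hβ
    split_ifs with hle
    · rw [coeff_monomial, if_neg]
      intro h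
      apply hmem
      have : β = α + γ := by rw [← h, add_comm, tsub_add_cancel_of_le hle]
      rw [← this]
      exact hβ
    · exact coeff_zero γ

theorem coeff_contract_monomial [Nontrivial k] (α : Fin m →₀ ℕ) (G : MvPolynomial (Fin m) k)
    (δ : Fin m →₀ ℕ) :
    coeff δ (contract (monomial α 1) G) = coeff (α + δ) G * (cc (α + δ) α : k) := by
  classical
  rw [coeff_contract, support_monomial, if_neg one_ne_zero, Finset.sum_singleton, coeff_monomial,
    if_pos rfl, one_mul]

theorem desc_identity (a d g : ℕ) :
    Nat.descFactorial (a + d + g) a * Nat.descFactorial (d + g) d =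
      Nat.descFactorial (d + a + g) d * Nat.descFactorial (a + g) a := by
  have hg : 0 < g.factorial := Nat.factorial_pos g
  apply Nat.eq_of_mul_eq_mul_left hg
  have h1 : g.factorial * Nat.descFactorial (d + g) d = (d + g).factorial := by
    have := Nat.factorial_mul_descFactorial (n := d + g) (k := d) (by omega)
    rwa [show d + g - d = g by omega] at this
  have h2 : (d + g).factorial * Nat.descFactorial (a + d + g) a = (a + d + g).factorial := by
    have := Nat.factorial_mul_descFactorial (n := a + d + g) (k := a) (by omega)
    rwa [show a + d + g - a = d + g by omega] at this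
  have h3 : g.factorial * Nat.descFactorial (a + g) a = (a + g).factorial := by
    have := Nat.factorial_mul_descFactorial (n := a + g) (k := a) (by omega)
    rwa [show a + g - a = g by omega] at this
  have h4 : (a + g).factorial * Nat.descFactorial (d + a + g) d = (d + a + g).factorial := by
    have := Nat.factorial_mul_descFactorial (n := d + a + g) (k := d) (by omega)
    rwa [show d + a + g - d = a + g by omega] at this
  calc g.factorial * (Nat.descFactorial (a + d + g) a * Nat.descFactorial (d + g) d)
      = (g.factorial * Nat.descFactorial (d + g) d) * Nat.descFactorial (a + d + g) a := by ring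
    _ = (a + d + g).factorial := by rw [h1, h2]
    _ = (d + a + g).factorial := by rw [add_comm a d]
    _ = (g.factorial * Nat.descFactorial (a + g) a) * Nat.descFactorial (d + a + g) d := by
        rw [h3, h4]
    _ = g.factorial * (Nat.descFactorial (d + a + g) d * Nat.descFactorial (a + g) a) := by ring

theorem cc_identity (α δ γ : Fin m →₀ ℕ) :
    cc (α + (δ + γ)) α * cc (δ + γ) δ = cc (δ + (α + γ)) δ * cc (α + γ) α := by
  unfold cc
  rw [← Finset.prod_mul_distrib, ← Finset.prod_mul_distrib]
  apply Finset.prod_congr rfl
  intro i _
  simp only [Finsupp.add_apply]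
  have := desc_identity (α i) (δ i) (γ i)
  rw [show α i + (δ i + γ i) = α i + δ i + γ i by ring,
    show δ i + (α i + γ i) = δ i + α i + γ i by ring]
  exact this

theorem coeff_contract_contract_monomial [Nontrivial k] (D F : MvPolynomial (Fin m) k)
    (α γ : Fin m →₀ ℕ) :
    coeff γ (contract D (contract (monomial α 1) F)) =
      (cc (α + γ) α : k) * coeff (α + γ) (contract D F) := by
  classical
  rw [coeff_contract, coeff_contract, Finset.mul_sum]
  apply Finset.sum_congr rfl
  intro δ _
  rw [coeff_contract_monomial]
  have h := cc_identity α δ γ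
  have h' : ((cc (α + (δ + γ)) α : ℕ) : k) * (cc (δ + γ) δ : k) =
      (cc (δ + (α + γ)) δ : k) * (cc (α + γ) α : k) := by
    rw [← Nat.cast_mul, ← Nat.cast_mul, h]
  calc coeff δ D * (coeff (α + (δ + γ)) F * (cc (α + (δ + γ)) α : k)) * (cc (δ + γ) δ : k)
      = coeff δ D * coeff (α + (δ + γ)) F * ((cc (α + (δ + γ)) α : k) * (cc (δ + γ) δ : k)) := by
        ring
    _ = coeff δ D * coeff (δ + (α + γ)) F * ((cc (δ + (α + γ)) δ : k) * (cc (α + γ) α : k)) := by
        rw [h', show α + (δ + γ) = δ + (α + γ) by abel]
    _ = _ := by ring

theorem main (k : Type u) [Field k] [CharZero k] (m : ℕ)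
    (F : MvPolynomial (Fin m) k) (e : ℕ) (hF : F.IsHomogeneous e) (d : ℕ) (hd : d ≤ e)
    (D : MvPolynomial (Fin m) k) (hD : D.IsHomogeneous d) :
    contract D F = 0 ↔
      ∀ α : Fin m →₀ ℕ, α.degree = e - d →
        contract D (contract (MvPolynomial.monomial α 1) F) = 0 := by
  classical
  constructor
  · intro h α _
    ext γ
    rw [coeff_contract_contract_monomial, h, coeff_zero, mul_zero, coeff_zero]
  · intro h
    ext α
    rw [coeff_zero]
    by_cases hα : α.degree = e - d
    · have h1 := congrArg (coeff 0) (h α hα)
      rw [coeff_contract_contract_monomial, coeff_zero, add_zero] at h1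
      have hc : (cc α α : k) ≠ 0 := by
        unfold cc
        rw [Nat.cast_ne_zero]
        apply Finset.prod_ne_zero_iff.mpr
        intro i _
        rw [Nat.descFactorial_self]
        exact Nat.factorial_ne_zero _
      exact (mul_eq_zero.mp h1).resolve_left hc
    · rw [coeff_contract]
      apply Finset.sum_eq_zero
      intro δ hδ
      have hδd : δ.degree = d := by
        have := hD (mem_support_iff.mp hδ)
        rw [Finsupp.degree_eq_weight_one]
        exact this
      by_cases hF0 : coeff (δ + α) F = 0
      · rw [hF0, mul_zero, zero_mul]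
      · exfalso
        have h9 : (δ + α).degree = e := by
          have := hF hF0
          rw [Finsupp.degree_eq_weight_one]
          exact this
        apply hα
        rw [map_add] at h9
        omega

end Groth.Agent.Lib.Helper6.Apolar
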